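import Groth.Agent.CanPar.K795.Iface
import Groth.Agent.AutFam.K544.IsomQc
import Groth.Agent.Etbase.HensSection
import Groth.Agent.Etbase.NormalSepClosed

/-!
# Isomorphisms of reductive groups over a valuation ring with algebraically closed fraction field

`isoInner`: an isomorphism between the generic fibres of two reductive groups over such a valuation ring `O` is, up to
an inner automorphism, the generic fibre of an isomorphism over `O`.
-/

set_option autoImplicit false
open CategoryTheory MonoidalCategory CartesianMonoidalCategory MonObj GrpObj AlgebraicGeometry Limits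
universe u

namespace K544.IsoInner

open Groth.Agent.Sga3B Groth.Agent.Sga3B.IsomLocal Groth.Agent.Sga3B.IsoFam Groth.Agent.Sga3B.BcPts

/-- A scheme étale over the spectrum of a strictly henselian local ring has a section through any point over the
closed point. -/
theorem exists_section_of_etale {O : Type u} [CommRing O] [HenselianLocalRing O]
    [IsSepClosed (IsLocalRing.ResidueField O)] {S' : Scheme.{u}} (f : S' ⟶ Spec (CommRingCat.of O)) [Etale f]
    (h : IsLocalRing.closedPoint O ∈ Set.range f) : ∃ σ : Spec (CommRingCat.of O) ⟶ S', σ ≫ f = 𝟙 _ := by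
  obtain ⟨s', hs'⟩ := h
  let r : Spec (CommRingCat.of (IsLocalRing.ResidueField O)) ⟶ Spec (CommRingCat.of O) :=
    Spec.map (CommRingCat.ofHom (IsLocalRing.residue O))
  have hr : r default = IsLocalRing.closedPoint O := by
    rw [Subsingleton.elim (default : Spec (CommRingCat.of (IsLocalRing.ResidueField O)))
      (IsLocalRing.closedPoint (IsLocalRing.ResidueField O))]
    exact IsLocalRing.comap_closedPoint (IsLocalRing.residue O)
  obtain ⟨l, hl, -⟩ := Scheme.exists_fac_of_etale_of_isSepClosed f r s' (by rw [hs', hr])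
  obtain ⟨s, hs, -⟩ := Groth.Agent.Etbase.HensSection.exists_section f l hl
  exact ⟨s, hs⟩

/-- A non-empty scheme locally of finite type over an algebraically closed field has a rational point. -/
theorem exists_point {K : Type u} [Field K] [IsAlgClosed K] {F : Scheme.{u}} [Nonempty F]
    (c : F ⟶ Spec (CommRingCat.of K)) [LocallyOfFiniteType c] :
    ∃ y : Spec (CommRingCat.of K) ⟶ F, y ≫ c = 𝟙 _ := by
  have : JacobsonSpace ↥F := LocallyOfFiniteType.jacobsonSpace c
  obtain ⟨z, -, hz⟩ : ((Set.univ : Set F) ∩ closedPoints F).Nonempty := by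
    by_contra hcon
    rw [Set.not_nonempty_iff_eq_empty] at hcon
    have h1 := JacobsonSpace.closure_inter_closedPoints_eq_closure (X := F)
      (isOpen_univ (X := F)).isLocallyClosed
    rw [hcon, closure_empty] at h1
    have := subset_closure (Set.mem_univ (Classical.arbitrary F))
    rw [← h1] at this
    exact this
  exact ⟨pointOfClosedPoint c z hz, pointOfClosedPoint_comp c z hz⟩

/-- Two reductive groups over a strictly henselian local ring have pinnings. -/
theorem exists_pinnings {O : Type u} [CommRing O] [HenselianLocalRing O]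
    [IsSepClosed (IsLocalRing.ResidueField O)] {G H : Over (Spec (CommRingCat.of O))} [GrpObj G] [GrpObj H]
    (hG : Red.IsReductive G) (hH : Red.IsReductive H) :
    Nonempty (Red.Pinning G) ∧ Nonempty (Red.Pinning H) := by
  obtain ⟨R, v, hv, hs, ⟨D⟩, ⟨D'⟩⟩ := PinPair.exists_pinnings hG hH (IsLocalRing.closedPoint O)
  obtain ⟨σ, hσ⟩ := exists_section_of_etale v hs
  exact ⟨⟨SplitIso848.pinOfIso ((BcIso.bcCompIso σ v G).symm ≪≫ BcIso.bcCongrIso hσ G ≪≫ BcIso.bcIdIso G)
      (SplitBc264.pinBc σ D)⟩,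
    ⟨SplitIso848.pinOfIso ((BcIso.bcCompIso σ v H).symm ≪≫ BcIso.bcCongrIso hσ H ≪≫ BcIso.bcIdIso H)
      (SplitBc264.pinBc σ D')⟩⟩

lemma ev_symm {S S' : Scheme.{u}} {f : S' ⟶ S} {X Y : Over S} (φ : Red.bc f X ⟶ Red.bc f Y) {T : Over S'}
    (y : T ⟶ Red.bc f X) :
    ev φ ((bcEquiv f T X).symm y) (Over.homMk T.hom : (Over.map f).obj T ⟶ Over.mk f) =
      (bcEquiv f T Y).symm (y ≫ φ) := by
  let t : (Over.map f).obj T ⟶ Over.mk f := Over.homMk T.hom
  let θ : Over.mk t.left ⟶ T := Over.homMk (𝟙 _) (Category.id_comp _)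
  let θ' : T ⟶ Over.mk t.left := Over.homMk (𝟙 _) (Category.id_comp _)
  have h1 : (overIso t).hom = (Over.map f).map θ := by
    ext1
    rfl
  have h2 : (overIso t).inv = (Over.map f).map θ' := by
    ext1
    rfl
  have h3 : θ' ≫ θ = 𝟙 _ := by
    ext1
    exact Category.id_comp _
  change (overIso t).inv ≫ (bcEquiv f (Over.mk t.left) Y).symm
    (bcEquiv f (Over.mk t.left) X ((overIso t).hom ≫ (bcEquiv f T X).symm y) ≫ φ) = _
  rw [h1, h2, ← comp_bcEquiv_symm, comp_bcEquiv, Equiv.apply_symm_apply, ← Category.assoc, ← Category.assoc, h3,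
    Category.id_comp]

/-- **Isomorphisms over a valuation ring**: the interface statement `IsoInner`. -/
theorem isoInner : Groth.Agent.CanPar.K795.Iface.IsoInner.{u} := by
  intro K _ _ O G₁ G₂ _ _ hG₁ hG₂ f hf
  have hh : HenselianLocalRing O := Groth.Agent.Etbase.NormalSepClosed.henselianLocalRing (R := O) K
  have hsc : IsSepClosed (IsLocalRing.ResidueField O) :=
    Groth.Agent.Etbase.NormalSepClosed.isSepClosed_residueField (R := O) K
  obtain ⟨⟨D⟩, ⟨D'⟩⟩ := exists_pinnings hG₁ hG₂
  let j := Groth.Agent.CanPar.K795.Iface.genO O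
  choose φ hφ using IsomLocal2.exists_fe D D'
  let fg : Grp.mk (Red.bc j G₁) ≅ Grp.mk (Red.bc j G₂) := Grp.mkIso' f
  have hfam := isIsoFamily_fam fg
  have hx : Nonempty (Over.mk j).left := inferInstanceAs (Nonempty (Spec (CommRingCat.of K)))
  obtain ⟨x⟩ := hx
  obtain ⟨V, v, -, hv, ⟨z, hz⟩, e, g, hg⟩ := h1_of D D' (IsomHa505.haStmt D.toSplitRed D'.toSplitRed)
    (ChartFam.hbStmt D.toSplitRed D'.toSplitRed) (IsomHd848.hdStmt D D')
    (IsomHe832.heStmt_of_models D (fun R _ s => PinModelOf.nonempty_pinModel D R s)) φ hφ (Over.mk j) _ hfam x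
  have : Nonempty V.left := ⟨z⟩
  have hv' : LocallyOfFiniteType (v.left : V.left ⟶ Spec (CommRingCat.of K)) := by
    have := hv
    infer_instance
  obtain ⟨y, hy⟩ := exists_point (v.left : V.left ⟶ Spec (CommRingCat.of K))
  have hyV : y ≫ V.hom = j := by
    rw [← Over.w v, ← Category.assoc, hy]
    exact Category.id_comp _
  let s : Over.mk j ⟶ V := Over.homMk y hyV
  have hs : s ≫ v = 𝟙 _ := by
    ext1
    exact hy
  -- the point `h`
  let h₀ : Over.mk j ⟶ G₁ := s ≫ g ≫ (φ e).inv.hom.hom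
  have hinv : (φ e).inv.hom.hom ≫ (φ e).hom.hom.hom = 𝟙 _ := congrArg (fun k => k.hom.hom) (φ e).inv_hom_id
  have key : ∀ (X' : Over (Spec (CommRingCat.of O))) (x' : X' ⟶ Over.mk j) (y' : X' ⟶ G₁),
      ev f.hom y' x' = ((x' ≫ h₀) * y' * (x' ≫ h₀)⁻¹) ≫ (φ e).hom.hom.hom := by
    intro X' x' y'
    have h1 := hg X' (x' ≫ s) y'
    rw [Category.assoc, hs, Category.comp_id, lift_fam] at h1
    have h2 : (x' ≫ h₀) ≫ (φ e).hom.hom.hom = (x' ≫ s) ≫ g := by
      simp only [h₀, Category.assoc, hinv, Category.comp_id]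
    rw [MonObj.mul_comp, MonObj.mul_comp, GrpObj.inv_comp, h2]
    exact h1
  let ε : (Over.map j).obj (𝟙_ (Over (Spec (CommRingCat.of K)))) ⟶ Over.mk j := Over.homMk (𝟙 _) (by
    change 𝟙 _ ≫ j = 𝟙 _ ≫ j
    rfl)
  have := hf
  refine ⟨(Grp.forget _).mapIso (φ e), (inferInstance : IsMonHom (φ e).hom.hom.hom), bcEquiv j _ G₁ (ε ≫ h₀), fun X y => ?_⟩
  obtain ⟨y', rfl⟩ := (bcEquiv j X G₁).surjective y
  have h1 := ev_symm f.hom (bcEquiv j X G₁ y')
  rw [Equiv.symm_apply_apply, key] at h1
  have h2 : toUnit X ≫ bcEquiv j _ G₁ (ε ≫ h₀) =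
      bcEquiv j X G₁ ((Over.homMk X.hom : (Over.map j).obj X ⟶ Over.mk j) ≫ h₀) := by
    rw [← comp_bcEquiv, ← Category.assoc]
    congr 2
  rw [h2]
  apply (bcEquiv j X G₂).symm.injective
  rw [← h1, bcEquiv_symm_comp]
  congr 1
  change _ = (bcMulEquiv j X G₁).symm (bcMulEquiv j X G₁ _ * bcMulEquiv j X G₁ _ * (bcMulEquiv j X G₁ _)⁻¹)
  rw [map_mul, map_mul, map_inv, MulEquiv.symm_apply_apply, MulEquiv.symm_apply_apply]

end K544.IsoInner
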