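import Groth.Agent.CanPar.K544.ModelLim
import Groth.Agent.Sga3B.BorCompat988
import Groth.Agent.S3950
import Groth.Agent.S3004

/-!
# Existence of pinned models of split reductive groups over a field

`modelEx`: the interface statement `ModelEx`.
-/

set_option autoImplicit false
universe u

open CategoryTheory CategoryTheory.Limits MonoidalCategory CartesianMonoidalCategory MonObj GrpObj AlgebraicGeometry

namespace K544.ModelEx

open Groth.Agent.Sga3B Groth.Agent.Sga3B.Cell Groth.Agent.Sga3B.PinMod Groth.Agent.Sga3B.PinFinal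
  Groth.Agent.Sga3B.DSPts Groth.Agent.Sga3B.Parab Groth.Agent.Sga3B.Par Groth.Agent.Sga3B.SplitBc264
  Groth.Agent.CanPar.K795

section root

variable {J J' M M' : Type} [Fintype J] [Fintype J'] [AddCommGroup M] [AddCommGroup M']
  {P : RootPairing J ℤ M (Module.Dual ℤ M)} {P' : RootPairing J' ℤ M' (Module.Dual ℤ M')}

lemma rootSum_equiv (h : RootPairing.Equiv P' P) (x : M →+ ℤ) :
    h.weightMap (Iface.rootSum P' (x.comp h.weightMap.toAddMonoidHom)) = Iface.rootSum P x := by
  classical
  have hr : ∀ j, h.weightMap (P'.root j) = P.root (h.indexEquiv j) := fun j =>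
    RootPairing.Hom.root_weightMap_apply P' P j h.toHom
  unfold Iface.rootSum
  rw [map_sum]
  refine Finset.sum_equiv h.indexEquiv (fun j => ?_) fun j _ => hr j
  rw [Finset.mem_filter, Finset.mem_filter, ← hr j]
  simp

end root

lemma coch_eq_comp {S : Scheme.{u}} {G H : Over S} [GrpObj G] [GrpObj H] (D₁ : Red.SplitRed G) (D : Red.SplitRed H)
    (f : G ⟶ H) (φ : D.M →+ D₁.M) (hi : D₁.i ≫ f = D₁.split.hom.hom.hom ≫ Red.DSmap S φ ≫
      D.split.inv.hom.hom ≫ D.i) (x : Module.Dual ℤ D.M) (y : Module.Dual ℤ D₁.M) (hxy : ∀ m, y (φ m) = x m) :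
    coch D x = coch D₁ y ≫ f := by
  have h1 : Red.DSmap S y.toAddMonoidHom ≫ Red.DSmap S φ = Red.DSmap S x.toAddMonoidHom := by
    rw [← dsEquiv_dsChar (Red.DSmap S y.toAddMonoidHom ≫ Red.DSmap S φ),
      ← dsEquiv_dsChar (Red.DSmap S x.toAddMonoidHom)]
    congr 1
    rw [dsChar_DSmap, ← Category.id_comp (Red.DSmap S y.toAddMonoidHom), dsChar_DSmap,
      ← Category.id_comp (Red.DSmap S x.toAddMonoidHom), dsChar_DSmap]
    refine MonoidHom.ext fun m => ?_
    change dsChar (𝟙 _) (Multiplicative.ofAdd (y (φ m.toAdd))) = dsChar (𝟙 _) (Multiplicative.ofAdd (x m.toAdd))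
    rw [hxy]
  rw [coch, coch, cochT, cochT, Category.assoc, Category.assoc, Category.assoc, hi, ← Category.assoc (D₁.split.inv.hom.hom),
    split_inv_hom, Category.id_comp, ← Category.assoc (Red.DSmap S y.toAddMonoidHom), h1]

/-- **Existence of models.** -/
theorem modelEx : Iface.ModelEx.{u} := by
  intro k K _ _ _ H _ D b
  have : D.P.IsReduced := PinComb.isReduced b
  obtain ⟨G₀, _, D₀, h, hh⟩ := Groth.Agent.S3950.result (Spec (CommRingCat.of k)) D.P b
  let a : Spec (CommRingCat.of K) ⟶ Spec (CommRingCat.of k) := Spec.map (CommRingCat.ofHom (algebraMap k K))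
  let D' : Red.Pinning H := { toSplitRed := D, base := b }
  obtain ⟨f, ⟨hf, hi, -⟩, -⟩ := Groth.Agent.S3004.result (Spec (CommRingCat.of K)) (Red.bc a G₀) H
    (SplitBc264.pinBc a D₀) D' (RootPairing.Equiv.symm _ _ h) (fun a' => by
      have h1 := hh (h.indexEquiv.symm a')
      rw [Equiv.apply_symm_apply] at h1
      exact h1.symm)
  obtain ⟨m⟩ := PinModelOf.nonempty_pinModel D₀ k (𝟙 _)
  have hsym : ∀ x : D.M, h.weightMap ((RootPairing.Equiv.weightEquiv _ _ h).symm x) = x := fun x =>
    RootPairing.Equiv.weightMap_weightEquiv_symm _ _ h x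
  refine ⟨{
    idx := D₀.idx
    M := D₀.M
    P := D₀.P
    base := D₀.base
    G₀ := G₀
    red₀ := D₀.reductive
    A := m.A
    E := m.E
    pts := fun B _ _ => (m.pts B).trans (preMul (kp (Category.comp_id _).symm) G₀)
    pts_nat := ?_
    f := f
    isMonHom_f := hf
    e := (RootPairing.Equiv.weightEquiv _ _ h).toAddEquiv
    rootSum_e := fun x => rootSum_equiv h x
    pos_e := ?_
    lim := ?_ }⟩
  · intro B C _ _ _ _ φ hφ g
    change _ ≫ (kp (Category.comp_id _).symm).hom ≫ m.pts B g = (kp (Category.comp_id _).symm).hom ≫ m.pts C (Pt.map φ g)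
    rw [← m.pts_nat]
    ext1
    change Spec.map _ ≫ 𝟙 _ ≫ (m.pts B g).left = 𝟙 _ ≫ Spec.map _ ≫ (m.pts B g).left
    rw [Category.id_comp, Category.id_comp]
  · intro x hx j hj
    have h1 : D.P.root (h.indexEquiv j) = h.weightMap (D₀.P.root j) :=
      (RootPairing.Hom.root_weightMap_apply D₀.P D.P j h.toHom).symm
    have h2 := hx (h.indexEquiv j) ((BorCompat988.isPos_indexEquiv b D₀.base h hh j).2 hj)
    rw [h1] at h2
    exact h2
  · intro x B _ _ _ _ hc v
    have hco : coch D x.toIntLinearMap = coch (SplitBc264.splitBc a D₀.toSplitRed)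
        (x.comp h.weightMap.toAddMonoidHom).toIntLinearMap ≫ f.hom :=
      coch_eq_comp (SplitBc264.splitBc a D₀.toSplitRed) D f.hom
        (RootPairing.Equiv.symm _ _ h).weightMap.toAddMonoidHom hi x.toIntLinearMap _ (fun x' => by
          change x (h.weightMap ((RootPairing.Equiv.weightEquiv _ _ h).symm x')) = x x'
          rw [hsym])
    rw [hco, limEx_comp_iff _ f hf, Par.coch_splitBc, DynBc998.limEx_bc_iff]
    refine limEx_iff m (x.comp h.weightMap.toAddMonoidHom) hc.symm v _ ?_
    rw [DynBc998.dnI_affI, bcEquiv_symm_left, Iface.bcPt_fst]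
    change 𝟙 _ ≫ (m.pts B v).left = _
    rw [Category.id_comp]

end K544.ModelEx
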