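import Groth.Agent.CanPar.K795.Iface2
import Groth.Agent.Sga3B.Par.CanBc
import Groth.Agent.Sga3B.PinModelOf

/-!
# Limits of the points of a pinned model

`limEx_iff`: `LimEx` of the cocharacter of a pinned group over `Spec k` is the condition `LimP` of its model.
`limEx_comp_iff`: limits and isomorphisms of groups.
-/

set_option autoImplicit false
universe u

open CategoryTheory CategoryTheory.Limits MonoidalCategory CartesianMonoidalCategory MonObj GrpObj AlgebraicGeometry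
open scoped LaurentPolynomial Polynomial

namespace K544.ModelEx

open Groth.Agent.Sga3B Groth.Agent.Sga3B.Cell Groth.Agent.Sga3B.Cell.Datum Groth.Agent.Sga3B.PinMod
  Groth.Agent.Sga3B.PinFinal Groth.Agent.Sga3B.DSPts Groth.Agent.Sga3B.Parab Groth.Agent.Sga3B.Par
  Groth.Agent.RedSub.H660.Iwasawa Groth.Agent.CanPar.K795.AdMat

section ov

variable {S T : Scheme.{u}}

/-- two structure morphisms -/
noncomputable def kp {σ σ' : T ⟶ S} (h : σ = σ') : Over.mk σ ≅ Over.mk σ' := Over.isoMk (Iso.refl _) (by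
  change 𝟙 _ ≫ σ' = σ
  rw [Category.id_comp, h])

lemma kp_hom_left {σ σ' : T ⟶ S} (h : σ = σ') : (kp h).hom.left = 𝟙 _ := rfl

lemma kp_inv_left {σ σ' : T ⟶ S} (h : σ = σ') : (kp h).inv.left = 𝟙 _ := rfl

/-- composition with an isomorphism on points -/
noncomputable def preMul {X Y : Over S} (e : X ≅ Y) (G : Over S) [GrpObj G] : (Y ⟶ G) ≃* (X ⟶ G) where
  toFun g := e.hom ≫ g
  invFun g := e.inv ≫ g
  left_inv g := by simp
  right_inv g := by simp
  map_mul' g h := MonObj.comp_mul _ _ _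

lemma preMul_apply {X Y : Over S} (e : X ≅ Y) (G : Over S) [GrpObj G] (g : Y ⟶ G) : preMul e G g = e.hom ≫ g := rfl

end ov

section comp

variable {S : Scheme.{u}} {G G' : Over S} [GrpObj G] [GrpObj G'] {B : Type u} [CommRing B]
  {c : Spec (CommRingCat.of B) ⟶ S}

lemma orb_comp (lam : Red.Gm S ⟶ G) (f : G ⟶ G') [IsMonHom f] (g : aff B c ⟶ G) :
    orb (lam ≫ f) (g ≫ f) = orb lam g ≫ f := by
  rw [orb, orb, MonObj.mul_comp, MonObj.mul_comp, GrpObj.inv_comp]
  simp only [Category.assoc]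

lemma limEx_comp_iff (lam : Red.Gm S ⟶ G) (f : G ≅ G') (hf : IsMonHom f.hom) (g : aff B c ⟶ G) :
    LimEx (lam ≫ f.hom) (g ≫ f.hom) ↔ LimEx lam g := by
  constructor
  · rintro ⟨h, h1⟩
    refine ⟨h ≫ f.inv, ?_⟩
    rw [orb_comp] at h1
    rw [← Category.assoc, h1, Category.assoc, Iso.hom_inv_id, Category.comp_id]
  · rintro ⟨h, h1⟩
    refine ⟨h ≫ f.hom, ?_⟩
    rw [orb_comp, ← h1, Category.assoc]

end comp

section model

variable {k : Type u} [Field k] {G : Over (Spec (CommRingCat.of k))} [GrpObj G] {D : Red.Pinning G}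
  (m : PinModel D.P D.base G (jOf D.toSplitRed) D.u (𝟙 (Spec (CommRingCat.of k))))
  {B : Type u} [CommRing B] [Algebra k B] {c : Spec (CommRingCat.of B) ⟶ Spec (CommRingCat.of k)}

include m in
/-- **limits in the model** -/
theorem limEx_iff (y : D.M →+ ℤ) (hc : c = Spec.map (CommRingCat.ofHom (algebraMap k B))) (v : Pt k m.A B)
    (g : aff B c ⟶ G) (hg : g.left = (m.pts B v).left) :
    LimEx (coch D.toSplitRed y.toIntLinearMap) g ↔ LimP m.E y v := by
  have hl : Spec.map (CommRingCat.ofHom (algebraMap k B[X])) ≫ 𝟙 (Spec (CommRingCat.of k)) =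
      Spec.map (CommRingCat.ofHom (algebraMap B B[X])) ≫ c := by
    rw [hc, Category.comp_id, ← Spec.map_comp, ← CommRingCat.ofHom_comp, ← IsScalarTower.algebraMap_eq]
  have hgm : Spec.map (CommRingCat.ofHom (algebraMap k B[T;T⁻¹])) ≫ 𝟙 (Spec (CommRingCat.of k)) =
      Spec.map (CommRingCat.ofHom (algebraMap B B[T;T⁻¹])) ≫ c := by
    rw [hc, Category.comp_id, ← Spec.map_comp, ← CommRingCat.ofHom_comp, ← IsScalarTower.algebraMap_eq]
  let κl : tB (𝟙 (Spec (CommRingCat.of k))) B[X] ≅ lin B c := kp hl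
  let κg : tB (𝟙 (Spec (CommRingCat.of k))) B[T;T⁻¹] ≅ gmo B c := kp hgm
  have e1 : κg.hom ≫ gmPr B c ≫ g = m.pts _ (Pt.map (lC k B) v) := by
    rw [← m.pts_nat]
    ext1
    change 𝟙 _ ≫ Spec.map _ ≫ g.left = Spec.map _ ≫ (m.pts B v).left
    rw [Category.id_comp, hg]
    rfl
  have e2 : κg.hom ≫ toLin B c = tMap (𝟙 (Spec (CommRingCat.of k))) (lau k B) ≫ κl.hom := by
    ext1
    change 𝟙 _ ≫ Spec.map _ = Spec.map _ ≫ 𝟙 _
    rw [Category.id_comp, Category.comp_id]
    rfl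
  have e3 : κg.hom ≫ tPt B c ≫ coch D.toSplitRed y.toIntLinearMap = m.pts _ (m.E.i _ (tht y B)) := by
    rw [m.pts_i, coch, cochT, tPt, Category.assoc, ← Category.assoc (dsEquiv _ _ _), dsEquiv_DSmap,
      ← Category.assoc κg.hom]
    congr 1
    apply ds_ext
    rw [dsFst_comp, dsFst_dsEquiv, dsFst_dsEquiv]
    change 𝟙 _ ≫ _ = _
    rw [Category.id_comp]
    rfl
  have e4 : κg.hom ≫ orb (coch D.toSplitRed y.toIntLinearMap) g =
      m.pts _ (m.E.i _ (tht y B) * Pt.map (lC k B) v * (m.E.i _ (tht y B))⁻¹) := by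
    rw [orb, MonObj.comp_mul, MonObj.comp_mul, GrpObj.comp_inv, e1, e3, map_mul, map_mul, map_inv]
  constructor
  · rintro ⟨h, h1⟩
    refine ⟨(m.pts B[X]).symm (κl.hom ≫ h), ?_⟩
    apply (m.pts B[T;T⁻¹]).injective
    rw [← e4, ← m.pts_nat, MulEquiv.apply_symm_apply, ← Category.assoc, ← e2, Category.assoc, h1]
  · rintro ⟨p, hp⟩
    refine ⟨κl.inv ≫ m.pts _ p, ?_⟩
    rw [← cancel_epi κg.hom, e4, ← hp, ← m.pts_nat, ← Category.assoc, e2, Category.assoc, Iso.hom_inv_id_assoc]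

end model

end K544.ModelEx
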